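import Groth.Agent.FieldDim.Basic
import Groth.Agent.AlgSpDec.FieldFibre
import Groth.Agent.AlgSpDec.FibreDimEtale
import Mathlib.AlgebraicGeometry.ZariskisMainTheorem

/-!
# Quasi-finiteness and codimension zero points
-/

set_option autoImplicit false
set_option backward.isDefEq.respectTransparency false
set_option backward.isDefEq.respectTransparency.types false

universe u

open CategoryTheory CategoryTheory.Limits AlgebraicGeometry AlgSp Groth.Agent.AlgSpLib

namespace Groth.Agent.CodimQf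

section sch
variable {X Y : Scheme.{u}} (f : X ⟶ Y) [LocallyOfFiniteType f]

theorem qf_iff_fibreDimAt (x : X) :
    (∃ W : X.Opens, x ∈ W ∧ LocallyQuasiFinite (W.ι ≫ f) ∧ LocallyOfFiniteType (W.ι ≫ f)) ↔
      FlatMor.fibreDimAt f x = 0 := by
  rw [AlgSpDec.fibreDimAt_eq_zero_iff, ← Scheme.Hom.quasiFiniteAt_iff_isOpen_singleton_asFiber]
  constructor
  · rintro ⟨W, hxW, hq, -⟩
    have h1 := (W.ι ≫ f).quasiFiniteAt (⟨x, hxW⟩ : W.toScheme)
    exact (Scheme.Hom.quasiFiniteAt_comp_iff_of_isOpenImmersion (f := W.ι) (g := f)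
      (x := (⟨x, hxW⟩ : W.toScheme))).1 h1
  · intro hx
    refine ⟨f.quasiFiniteLocus, hx, ?_, inferInstance⟩
    rw [← Scheme.Hom.quasiFiniteLocus_eq_top_iff, Scheme.Hom.quasiFiniteLocus_comp]
    exact top_unique fun z _ => z.2

theorem specializes_asFiber {x x' : X} (h : x' ⤳ x) (he : f x' = f x) :
    ∃ z : ↥(f.fiber (f x)), f.fiberι (f x) z = x' ∧ z ⤳ f.asFiber x := by
  refine ⟨(f.fiberHomeo (f x)).symm ⟨x', he⟩, ?_, ?_⟩
  · have := congrArg Subtype.val ((f.fiberHomeo (f x)).apply_symm_apply ⟨x', he⟩)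
    rwa [f.fiberHomeo_apply] at this
  · exact ((subtype_specializes_iff _ _).2 h : (⟨x', he⟩ : f ⁻¹' {f x}) ⤳ ⟨x, rfl⟩).map
      (f.fiberHomeo (f x)).symm.continuous

/-- At an isolated point of the fibre there are no other points of the fibre specializing to or from it. -/
theorem eq_of_qf {x : X} (h0 : FlatMor.fibreDimAt f x = 0) {x' : X} (he : f x' = f x)
    (h : x' ⤳ x ∨ x ⤳ x') : x' = x := by
  have ho := (AlgSpDec.fibreDimAt_eq_zero_iff f x).1 h0
  rcases h with h | h
  · obtain ⟨z, hz, hzx⟩ := specializes_asFiber f h he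
    rw [← hz, show z = f.asFiber x from hzx.mem_open ho rfl, Scheme.Hom.fiberι_asFiber]
  · have hc := ((Scheme.Hom.quasiFiniteAt_iff_isOpen_singleton_asFiber.2 ho).isClopen_singleton_asFiber).1
    let z := (f.fiberHomeo (f x)).symm ⟨x', he⟩
    have hz : f.fiberι (f x) z = x' := by
      have := congrArg Subtype.val ((f.fiberHomeo (f x)).apply_symm_apply ⟨x', he⟩)
      rwa [f.fiberHomeo_apply] at this
    have hxz : f.asFiber x ⤳ z :=
      ((subtype_specializes_iff _ _).2 h : (⟨x, rfl⟩ : f ⁻¹' {f x}) ⤳ ⟨x', he⟩).map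
        (f.fiberHomeo (f x)).symm.continuous
    rw [← hz, show z = f.asFiber x from hxz.mem_closed hc rfl, Scheme.Hom.fiberι_asFiber]

/-- A point whose fibre consists of points without proper generizations is isolated in it. -/
theorem fibreDimAt_eq_zero_of_max {x : X} (h : ∀ z z' : X, f z = f x → z' ⤳ z → z' = z) :
    FlatMor.fibreDimAt f x = 0 := by
  rw [AlgSpDec.fibreDimAt_eq_zero_iff]
  have : LocallyOfFiniteType (f.fiberToSpecResidueField (f x)) :=
    MorphismProperty.pullback_snd (P := @LocallyOfFiniteType) _ _ ‹_›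
  have : IsLocallyNoetherian (f.fiber (f x)) :=
    LocallyOfFiniteType.isLocallyNoetherian (f.fiberToSpecResidueField (f x))
  have key : ∀ a b : ↥(f.fiber (f x)), a ⤳ b → a = b := fun a b hab => by
    refine (f.fiberι (f x)).injective (h _ _ ?_ (hab.map (f.fiberι (f x)).continuous))
    have : f.fiberι (f x) b ∈ f ⁻¹' {f x} := by
      rw [← f.fiberHomeo_apply]; exact Subtype.coe_prop _
    exact this
  refine FieldDim.isOpen_singleton_of_closed ?_ fun t ht => key t _ ht
  have : T1Space ↥(f.fiber (f x)) := t1Space_iff_specializes_imp_eq.2 fun a b hab => key a b hab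
  exact isClosed_singleton

end sch

theorem coheight_eq_zero_iff {X : Scheme.{u}} (x : X) :
    Order.coheight x = 0 ↔ ∀ x' : X, x' ⤳ x → x' = x := by
  rw [Order.coheight_eq_zero]
  exact ⟨fun h x' hx => (hx.antisymm (h (show x ≤ x' from hx) : x ⤳ x')).eq,
    fun h x' hx => le_of_eq (h x' hx)⟩

theorem exists_coheight_zero_specializes {X : Scheme.{u}} (x : X) :
    ∃ g : X, g ⤳ x ∧ Order.coheight g = 0 := by
  obtain ⟨g, hg⟩ : ∃ g, IsGenericPoint g (irreducibleComponent x) :=
    ⟨_, (isIrreducible_irreducibleComponent (x := x)).isGenericPoint_genericPoint isClosed_irreducibleComponent⟩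
  refine ⟨g, hg.specializes mem_irreducibleComponent, (coheight_eq_zero_iff g).2 fun x' hx' => ?_⟩
  have h1 : irreducibleComponent x ⊆ closure {x'} := hg.def ▸ specializes_iff_closure_subset.1 hx'
  have h2 := (irreducibleComponent_mem_irreducibleComponents x).2 isIrreducible_singleton.closure h1
  exact (IsGenericPoint.eq hg (show IsGenericPoint x' (irreducibleComponent x) from
    subset_antisymm h2 h1)).symm

variable {S : Scheme.{u}} {F G : Sp S}

theorem hasAt_codim_zero_iff {U : Over S} {a : (yon S).obj U ⟶ F} (ha : RepWith @Etale a) (u : ↥U.left) :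
    HasAt (fun U u => ringKrullDim ↥(U.presheaf.stalk u) = 0) F (Points.ofPt a u) ↔
      Order.coheight u = 0 := by
  refine ⟨?_, fun h => ⟨U, a, u, ha, rfl, (ringKrullDim_stalk_eq_coheight u).trans (by rw [h]; rfl)⟩⟩
  rintro ⟨U', a', u', ha', he, h'⟩
  rw [ringKrullDim_stalk_eq_coheight] at h'
  rw [← AlgSpPts.coheight_eq_of_charts ha' ha he]
  exact WithBot.coe_eq_zero.1 h'

theorem hasAtMor_qf_iff {f : F ⟶ G} (hf : LocP @LocallyOfFiniteType f) {U V : Over S}
    {a : (yon S).obj U ⟶ F} {b : (yon S).obj V ⟶ G} {h : U ⟶ V} (ha : RepWith @Etale a)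
    (hb : RepWith @Etale b) (w : a ≫ f = (yon S).map h ≫ b) (u : ↥U.left) :
    HasAtMor (fun U _ h u => ∃ W : U.Opens, u ∈ W ∧ LocallyQuasiFinite (W.ι ≫ h) ∧
        LocallyOfFiniteType (W.ι ≫ h)) f (Points.ofPt a u) ↔ FlatMor.fibreDimAt h.left u = 0 := by
  have : LocallyOfFiniteType h.left := hf a b h ha hb w
  refine ⟨?_, fun h0 => ⟨U, V, a, b, h, u, ha, hb, w, rfl, (qf_iff_fibreDimAt h.left u).2 h0⟩⟩
  rintro ⟨U', V', a', b', h', u', ha', hb', w', hx, hq⟩
  have : LocallyOfFiniteType h'.left := hf a' b' h' ha' hb' w'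
  rw [AlgSpDec.RelDimSp.fibreDimAt_congr hf ha hb w ha' hb' w' hx.symm]
  exact (qf_iff_fibreDimAt h'.left u').1 hq

end Groth.Agent.CodimQf
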